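import Cfsg.Agent.H328.Mon.NineMod

/-!
# TEAM ODDM (S4785): the row of the Monster (helper328)

`r = 19`, `|C(v)| = 19 · 60`, `|N(⟨v⟩)| = 19 · 1080`; `s = 13`.
-/

set_option autoImplicit false

namespace Cfsg.Agent.H328.Mon.OdmRowM

open Cfsg Subgroup
open Cfsg.Agent.H453.OddM Cfsg.Agent.H217.Odm

universe u

theorem chk : chkTwoPart 808017424794512875886459904961710757005754368000000000
    [(2, 46), (3, 20), (5, 9), (7, 6), (11, 2), (13, 3), (17, 1), (19, 1), (23, 1), (29, 1), (31, 1), (41, 1), (47, 1),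
      (59, 1), (71, 1)] 19 1080 [13] = true := by decide +kernel

/-- the normalizer of an element of order 19 of the Monster; these elements are real -/
theorem nineteen (tab : Cfsg.Agent.OrdDiv.OrderTable.{u}) (known : Cfsg.Agent.H257.El.Known.{u}) {T : Type u}
    [Group T] (h : Cfsg.Spor.IsoM T) {v : T} (hv : orderOf v = 19) :
    Nat.card (centralizer ({v} : Set T)) = 19 * 60 ∧
      Nat.card (normalizer ((zpowers v : Subgroup T) : Set T)) = 19 * 1080 ∧ IsReal v := by
  have hc := NotCT.Orders.m h
  have : Finite T := Nat.finite_of_card_ne_zero (by rw [hc]; norm_num)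
  have h1 := card_cent_nineteen tab known (dat h) hv
  obtain ⟨h2, h3⟩ := norm_of_cent (G := T) (r := 19) (n := 42527232883921730309813679208511092473987072000000000) (x := v)
    (c := 60) (e := 18) (by norm_num) (by rw [hc]) (by norm_num) hv h1 (by norm_num) (by norm_num)
  exact ⟨h1, by rw [h2], h3 (by decide)⟩

/-- **The row of the Monster.** -/
theorem row (tab : Cfsg.Agent.OrdDiv.OrderTable.{u}) (known : Cfsg.Agent.H257.El.Known.{u}) {T : Type u} [Group T]
    (h : Cfsg.Spor.IsoM T) : Cfsg.Agent.H453.OddM.Row T := by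
  have hc := NotCT.Orders.m h
  have : Finite T := Nat.finite_of_card_ne_zero (by rw [hc]; norm_num)
  have : Fact (Nat.Prime 19) := ⟨by norm_num⟩
  obtain ⟨v, hv⟩ := exists_prime_orderOf_dvd_card' (G := T) 19 (by rw [hc]; norm_num)
  refine row_of_two tab known hc (by norm_num) ⟨v, hv, (nineteen tab known h hv).2.2⟩
    (fun x hx => (nineteen tab known h hx).2.1) (fun s hs => ?_) chk
  rw [List.mem_singleton] at hs
  subst hs
  refine ⟨by norm_num, realP_thirteen h, fun z hz => ?_⟩
  have h1 : orderOf (z ^ 13) = 19 := by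
    rw [orderOf_pow, hz]
    norm_num
  have h2 : z ∈ centralizer ({z ^ 13} : Set T) := by
    rw [mem_centralizer_singleton_iff, ← pow_succ, ← pow_succ']
  have h3 := orderOf_dvd_natCard (⟨z, h2⟩ : centralizer ({z ^ 13} : Set T))
  rw [Subgroup.orderOf_mk, hz, (nineteen tab known h h1).1] at h3
  exact absurd h3 (by norm_num)

end Cfsg.Agent.H328.Mon.OdmRowM
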