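import Cfsg.Agent.H328.Mon.NineAbs
import Cfsg.Agent.H149.Sp.Th
import Cfsg.Agent.H981.SCTh
import Cfsg.Agent.H573.Spor.Lift
import Cfsg.Agent.H393.Iso.He
import Cfsg.Agent.H332.MonUpper
import Cfsg.Agent.S5533
import Cfsg.Agent.S1066
import Cfsg.Agent.H181.MonMod
import Cfsg.Agent.NotCT.Orders

/-!
# The elements of order 19 of the Monster (helper328)

`dat : Spor.IsoM T → Dat T`, `realP_thirteen`.
-/

set_option autoImplicit false

namespace Cfsg.Agent.H328.Mon

open Cfsg Cfsg.Agent.LThreeMB Subgroup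
open Cfsg.Agent.H453.OddM

universe u v

/-! ### the Thompson group -/

/-- an element of order 19 is conjugate to its square, if the automizer is everything -/
theorem exists_sq {G : Type*} [Group G] [Finite G] {w : G} (hw : orderOf w = 19)
    (hN : Nat.card (normalizer ((zpowers w : Subgroup G) : Set G)) = 19 * 18)
    (hC : Nat.card (centralizer ({w} : Set G)) = 19) : ∃ h : G, h * w * h⁻¹ = w ^ 2 := by
  set P : Subgroup G := zpowers w with hP
  have hr : Nat.Prime 19 := by norm_num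
  have hPc : Nat.card P = 19 := by rw [hP, Nat.card_zpowers, hw]
  have hCP : centralizer ({w} : Set G) = centralizer (P : Set G) := by
    rw [hP, zpowers_eq_closure, centralizer_closure]
  let φ : normalizer (P : Set G) →* MulAut P := P.normalizerMonoidHom
  have hker : Nat.card φ.ker = 19 := by
    rw [show φ.ker = _ from P.normalizerMonoidHom_ker, ← hC, hCP]
    exact Nat.card_congr (Subgroup.subgroupOfEquivOfLe (centralizer_le_normalizer _)).toEquiv
  have hcard : Nat.card φ.range = 18 := by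
    have h1 : Nat.card φ.ker * Nat.card φ.range = 19 * 18 := by
      rw [← hN, ← Subgroup.card_mul_index φ.ker, Subgroup.index_ker]
    rw [hker] at h1
    omega
  let f : φ.range → {x : P // x ≠ 1} := fun α => ⟨α.1 ⟨w, mem_zpowers w⟩, by
    intro h
    have h1 : (⟨w, mem_zpowers w⟩ : P) = 1 := by
      apply α.1.injective
      rw [h, map_one]
    have h2 : w = 1 := congrArg Subtype.val h1
    rw [h2, orderOf_one] at hw
    exact absurd hw (by norm_num)⟩
  have hf : Function.Injective f := by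
    rintro ⟨α, hα⟩ ⟨β, hβ⟩ h
    have h1 : α ⟨w, mem_zpowers w⟩ = β ⟨w, mem_zpowers w⟩ := congrArg Subtype.val h
    apply Subtype.ext
    apply MulEquiv.ext
    rintro ⟨x, hx⟩
    obtain ⟨k, rfl⟩ := mem_zpowers_iff.1 hx
    have h2 : (⟨w ^ k, hx⟩ : P) = ⟨w, mem_zpowers w⟩ ^ k := rfl
    show α _ = β _
    rw [h2, map_zpow, map_zpow, h1]
  have hc : Nat.card {x : P // x ≠ 1} = 18 := by
    classical
    have : Fintype P := Fintype.ofFinite P
    rw [Nat.card_eq_fintype_card, Fintype.card_subtype_compl, Fintype.card_subtype_eq, ← Nat.card_eq_fintype_card, hPc]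
  have hbij := hf.bijective_of_nat_card_le (by rw [hc, hcard])
  obtain ⟨⟨_, ⟨n, rfl⟩⟩, hn⟩ := hbij.2 ⟨⟨w ^ 2, npow_mem_zpowers w 2⟩, by
    intro h
    have h2 : w ^ 2 = 1 := congrArg Subtype.val h
    have h3 := orderOf_dvd_of_pow_eq_one h2
    rw [hw] at h3
    exact absurd h3 (by norm_num)⟩
  exact ⟨n, congrArg (fun x : {x : P // x ≠ 1} => ((x.1 : P) : G)) hn⟩

theorem card_th {X : Type*} [Group X] (h : Spor.IsoTh X) : Nat.card X = 90745943887872000 := by
  obtain ⟨e⟩ := h
  rw [Nat.card_congr e.toEquiv]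
  exact Cfsg.Agent.S1700.result.2

theorem th_facts {X : Type*} [Group X] (h : Spor.IsoTh X) : ∃ u k : X, orderOf u = 19 ∧
    Nat.card (centralizer ({u} : Set X)) = 19 ∧ k * u * k⁻¹ = u ^ 2 := by
  have hc := card_th h
  have : Finite X := Nat.finite_of_card_ne_zero (by rw [hc]; norm_num)
  have : Fact (Nat.Prime 19) := ⟨by norm_num⟩
  obtain ⟨e⟩ := h
  have hsc : H537.Cop.SC 19 X := H981.SCTh.sc_th.congr e
  obtain ⟨u, hu⟩ := exists_prime_orderOf_dvd_card' (G := X) 19 (by rw [hc]; norm_num)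
  have h1 := (H217.Odm.norm_of_cent (G := X) (r := 19) (n := 4776102309888000) (x := u) (c := 1) (e := 18) (by norm_num)
    (by rw [hc]) (by norm_num) hu (by rw [hsc u hu]) (by norm_num) (by norm_num)).1
  obtain ⟨k, hk⟩ := exists_sq hu h1 (hsc u hu)
  exact ⟨u, k, hu, hsc u hu, hk⟩

/-! ### the model -/

/-- the first field of `Dat` -/
def Three (G : Type u) [Group G] : Prop :=
  ∃ y v g : G, orderOf y = 3 ∧ orderOf v = 19 ∧ y * v = v * y ∧
    (∀ z, z * y = y * z → z * v = v * z → ∃ i j : ℤ, z = v ^ i * y ^ j) ∧ g * v * g⁻¹ = v ^ 2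

def Five (G : Type u) [Group G] : Prop :=
  ∃ f v : G, orderOf f = 5 ∧ orderOf v = 19 ∧ f * v = v * f ∧
    ∀ s, orderOf s = 2 → s * f = f * s → s * v ≠ v * s

theorem three_of {G : Type*} [Group G] {y : G} (hy : orderOf y = 3) (h : Spor.IsoTh (XX y)) : Three G := by
  obtain ⟨u, k, hu, hsc, hk⟩ := th_facts h
  have h19 : Nat.Prime 19 := by norm_num
  have hcop : (19 : ℕ).Coprime (orderOf y) := by rw [hy]; norm_num
  obtain ⟨v, hv, hvo, hvu⟩ := exists_lift h19 hcop hu
  obtain ⟨g, hg, hgk⟩ := exists_mk k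
  refine ⟨y, v, g, hy, hvo, hv.symm, ?_, ?_⟩
  · intro z hzy hzv
    have h1 : mk y hzy ∈ centralizer ({u} : Set (XX y)) := by
      rw [mem_centralizer_singleton_iff, ← hvu]
      exact mk_comm hzy hv hzv
    have h2 : centralizer ({u} : Set (XX y)) = zpowers u := by
      symm
      have hfin : Finite (centralizer ({u} : Set (XX y))) := Nat.finite_of_card_ne_zero (by rw [hsc]; norm_num)
      apply Subgroup.eq_of_le_of_card_ge
      · rw [zpowers_le, mem_centralizer_singleton_iff]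
      · rw [hsc, Nat.card_zpowers, hu]
    rw [h2] at h1
    obtain ⟨i, hi⟩ := mem_zpowers_iff.1 h1
    have h3 : (v ^ i) * y = y * v ^ i := ((show Commute v y from hv).zpow_left i)
    have h4 : mk y h3 = mk y hzy := by
      rw [← hi, ← hvu]; rfl
    obtain ⟨j, hj⟩ := (mk_eq_mk h3 hzy).1 h4
    exact ⟨i, j, hj.symm⟩
  · have h1 : (g * v * g⁻¹) * y = y * (g * v * g⁻¹) := conj_comm hg hv
    have h2 : (v ^ 2) * y = y * v ^ 2 := ((show Commute v y from hv).pow_left 2)
    have h3 : mk y h1 = mk y h2 := by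
      have h4 : mk y h1 = mk y hg * mk y hv * (mk y hg)⁻¹ := rfl
      have h5 : mk y h2 = (mk y hv) ^ 2 := rfl
      rw [h4, h5, hvu, hgk, hk]
    obtain ⟨i, hi⟩ := (mk_eq_mk h1 h2).1 h3
    have hcy : Commute (g * v * g⁻¹) (y ^ i) := (show Commute (g * v * g⁻¹) y from h1).zpow_right i
    have h6 : ((g * v * g⁻¹) * y ^ i) ^ 19 = 1 := by
      rw [hi, ← pow_mul, mul_comm, pow_mul, ← hvo, pow_orderOf_eq_one, one_pow]
    rw [hcy.mul_pow, conj_pow] at h6
    have h7 : v ^ 19 = 1 := by rw [← hvo, pow_orderOf_eq_one]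
    rw [h7, mul_one, mul_inv_cancel, one_mul] at h6
    have h8 : orderOf (y ^ i) ∣ Nat.gcd 19 3 :=
      Nat.dvd_gcd (orderOf_dvd_of_pow_eq_one h6) (by rw [← hy]; exact orderOf_zpow_dvd' y i)
    rw [show Nat.gcd 19 3 = 1 by norm_num, Nat.dvd_one, orderOf_eq_one_iff] at h8
    rw [← hi, h8, mul_one]

theorem five_of {G : Type*} [Group G] {f : G} (hf : orderOf f = 5) (h : Spor.IsoHN (XX f)) : Five G := by
  have hc := H573.Spor.Monster.card_HN h
  have hfin : Finite (XX f) := Nat.finite_of_card_ne_zero (by rw [hc]; norm_num)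
  have h19 : Nat.Prime 19 := by norm_num
  have : Fact (Nat.Prime 19) := ⟨h19⟩
  have hcop : (19 : ℕ).Coprime (orderOf f) := by rw [hf]; norm_num
  obtain ⟨u, hu⟩ := exists_prime_orderOf_dvd_card' (G := XX f) 19 (by rw [hc]; norm_num)
  obtain ⟨v, hv, hvo, hvu⟩ := exists_lift h19 hcop hu
  refine ⟨f, v, hf, hvo, hv.symm, ?_⟩
  intro s hs hsf hsv
  have h1 : orderOf (mk f hsf) = 2 := orderOf_mk' Nat.prime_two hsf hs (by rw [hf]; norm_num)
  exact H393.Iso.na_hn h _ _ hu h1 (by rw [← hvu]; exact mk_comm hv hsf hsv.symm)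

/-! ### transport -/

theorem Three.congr {G : Type u} {H : Type v} [Group G] [Group H] (e : G ≃* H) (h : Three H) : Three G := by
  obtain ⟨y, v, g, hy, hv, hyv, hz, hg⟩ := h
  refine ⟨e.symm y, e.symm v, e.symm g, by rw [MulEquiv.orderOf_eq, hy], by rw [MulEquiv.orderOf_eq, hv],
    by rw [← map_mul, hyv, map_mul], ?_, by rw [← map_mul, ← map_inv, ← map_mul, hg, map_pow]⟩
  intro z hzy hzv
  have h1 := congrArg e hzy
  have h2 := congrArg e hzv
  simp only [map_mul, MulEquiv.apply_symm_apply] at h1 h2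
  obtain ⟨i, j, hij⟩ := hz (e z) h1 h2
  refine ⟨i, j, ?_⟩
  rw [← map_zpow, ← map_zpow, ← map_mul, ← hij, e.symm_apply_apply]

theorem Five.congr {G : Type u} {H : Type v} [Group G] [Group H] (e : G ≃* H) (h : Five H) : Five G := by
  obtain ⟨f, v, hf, hv, hfv, hs⟩ := h
  refine ⟨e.symm f, e.symm v, by rw [MulEquiv.orderOf_eq, hf], by rw [MulEquiv.orderOf_eq, hv],
    by rw [← map_mul, hfv, map_mul], ?_⟩
  intro s ho h1 h2
  have h3 := congrArg e h1
  have h4 := congrArg e h2
  simp only [map_mul, MulEquiv.apply_symm_apply] at h3 h4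
  exact hs (e s) (by rw [MulEquiv.orderOf_eq, ho]) h3 h4

theorem card_centralizer_congr {G : Type u} {H : Type v} [Group G] [Group H] (e : G ≃* H) (y : H) :
    Nat.card (centralizer ({e.symm y} : Set G)) = Nat.card (centralizer ({y} : Set H)) := by
  have h1 : centralizer ({y} : Set H) = (centralizer ({e.symm y} : Set G)).map e.toMonoidHom := by
    ext v
    rw [mem_centralizer_singleton_iff]
    constructor
    · intro hv
      refine ⟨e.symm v, ?_, by simp⟩
      rw [SetLike.mem_coe, mem_centralizer_singleton_iff, ← map_mul, hv, map_mul]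
    · rintro ⟨u, hu, rfl⟩
      rw [SetLike.mem_coe, mem_centralizer_singleton_iff] at hu
      change e u * y = y * e u
      have h2 := congrArg e hu
      rw [map_mul, map_mul, e.apply_symm_apply] at h2
      exact h2
  rw [h1, Subgroup.card_map_of_injective e.injective]

theorem rank_congr {G : Type u} {H : Type v} [Group G] [Group H] (e : G ≃* H) {p k : ℕ} (h : PRankLE p k H) :
    PRankLE p k G := by
  intro A hA ha
  have h1 := h (A.map e.toMonoidHom) ?_ ?_
  · rwa [Subgroup.card_map_of_injective e.injective] at h1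
  · refine ⟨⟨?_⟩⟩
    rintro ⟨_, a, ha, rfl⟩ ⟨_, b, hb, rfl⟩
    have h2 : a * b = b * a := congrArg Subtype.val (hA.is_comm.comm ⟨a, ha⟩ ⟨b, hb⟩)
    apply Subtype.ext
    show e a * e b = e b * e a
    rw [← map_mul, h2, map_mul]
  · rintro _ ⟨a, ha', rfl⟩
    show (e a) ^ p = 1
    rw [← map_pow, ha a ha', map_one]

/-! ### the four-group -/

theorem dvd_tE6 {F : Type} [Field F] [Fintype F] (hF : Fintype.card F = 4) : 19 ∣ Nat.card ↥(Cfsg.Lie.twistedE6 F 2) := by
  have h1 := Cfsg.Agent.S1066.result (K := F) (q := 2) Nat.prime_two.isPrimePow (by rw [hF]; norm_num)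
  have e3 : Nat.gcd 3 (2 + 1) = 3 := by decide
  rw [e3] at h1
  have h2 : 19 ∣ 3 * Nat.card ↥(Cfsg.Lie.twistedE6 F 2) := by rw [h1]; norm_num
  exact Nat.Coprime.dvd_of_dvd_mul_left (by norm_num) h2

theorem four : ∃ v : Spor.Monster, orderOf v = 19 ∧ 4 ∣ Nat.card (centralizer ({v} : Set Spor.Monster)) := by
  obtain ⟨E, N, K, hE, hN, hEK, ⟨F, _, _, hF, hn1, ⟨e⟩⟩, -, -⟩ := Cfsg.Agent.S5533.result
  have hcM : Nat.card Spor.Monster = 808017424794512875886459904961710757005754368000000000 :=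
    NotCT.Orders.m ⟨MulEquiv.refl _⟩
  have : Finite Spor.Monster := Nat.finite_of_card_ne_zero (by rw [hcM]; norm_num)
  have : Fact (Nat.Prime 19) := ⟨by norm_num⟩
  have h19 : 19 ∣ Nat.card N := by
    have h1 : 19 ∣ Nat.card K := by
      rw [Subgroup.card_eq_card_quotient_mul_card_subgroup ((E.subgroupOf N).subgroupOf K), Nat.card_congr e.toEquiv]
      exact (dvd_tE6 hF).mul_right _
    exact h1.trans (Subgroup.card_subgroup_dvd_card K)
  obtain ⟨v, hv⟩ := exists_prime_orderOf_dvd_card' (G := N) 19 h19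
  have hE4 : Nat.card E = 4 := hE.card_four
  have hvN : (v : Spor.Monster) ∈ normalizer (E : Set Spor.Monster) := by rw [← hN]; exact v.2
  have hvo : orderOf (v : Spor.Monster) = 19 := by rw [Subgroup.orderOf_coe, hv]
  refine ⟨v, hvo, ?_⟩
  rw [← hE4]
  apply Subgroup.card_dvd_of_le
  -- `v` acts trivially on `E`
  let ψ : normalizer (E : Set Spor.Monster) →* MulAut E := E.normalizerMonoidHom
  let τ : MulAut E →* Equiv.Perm E := MulAction.toPermHom (MulAut E) E
  have h1 : orderOf (τ (ψ ⟨v, hvN⟩)) ∣ 19 := by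
    have h2 : orderOf (⟨v, hvN⟩ : normalizer (E : Set Spor.Monster)) = 19 := by rw [Subgroup.orderOf_mk, hvo]
    rw [← h2]
    exact (orderOf_map_dvd (τ.comp ψ) _)
  have h3 : orderOf (τ (ψ ⟨v, hvN⟩)) ∣ 24 := by
    have h4 : Nat.card (Equiv.Perm E) = 24 := by
      classical
      have : Fintype E := Fintype.ofFinite E
      rw [Nat.card_eq_fintype_card, Fintype.card_perm, ← Nat.card_eq_fintype_card, hE4]
      rfl
    rw [← h4]
    exact orderOf_dvd_natCard _
  have h5 := Nat.dvd_gcd h1 h3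
  rw [show Nat.gcd 19 24 = 1 by norm_num, Nat.dvd_one, orderOf_eq_one_iff] at h5
  intro x hx
  rw [mem_centralizer_singleton_iff]
  have h6 : (τ (ψ ⟨v, hvN⟩)) ⟨x, hx⟩ = ⟨x, hx⟩ := by rw [h5]; rfl
  have h7 : (v : Spor.Monster) * x * (v : Spor.Monster)⁻¹ = x := congrArg Subtype.val h6
  exact (mul_inv_eq_iff_eq_mul.1 h7).symm

theorem dat {T : Type u} [Group T] (h : Spor.IsoM T) : Dat T := by
  have hc := NotCT.Orders.m h
  obtain ⟨e⟩ := h
  obtain ⟨f⟩ := Cfsg.Agent.MonsterP.Equiv.equiv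
  obtain ⟨-, y, -, hy, -, -, hTh⟩ := H149.Sp.exists_seven_three
  obtain ⟨x, hx, hHN⟩ := H573.Spor.Monster.exists_five
  refine ⟨hc, (three_of hy hTh).congr (e.trans f), (five_of hx hHN).congr (e.trans f), ?_,
    rank_congr e Cfsg.Agent.H332.MonUpper.monster_le⟩
  obtain ⟨v, hv, h4⟩ := four
  exact ⟨e.symm v, by rw [MulEquiv.orderOf_eq, hv], by rw [card_centralizer_congr]; exact h4⟩

theorem realP_thirteen {T : Type u} [Group T] (h : Spor.IsoM T) : RealP T 13 := by
  obtain ⟨e⟩ := h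
  obtain ⟨f⟩ := Cfsg.Agent.MonsterP.Equiv.equiv
  obtain ⟨x, t, hx, -, ht⟩ := H181.MonMod.exists_dihedral
  have h1 : IsReal (x : H181.MonMod.Gm) := IsReal.coe ⟨t, ht⟩
  exact ⟨(e.trans f).symm x, by rw [MulEquiv.orderOf_eq, Subgroup.orderOf_coe, hx], h1.map (e.trans f).symm.toMonoidHom⟩

end Cfsg.Agent.H328.Mon
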